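import Groth.Agent.H17.RegDescent.Local
import Groth.Agent.H17.KoszCancel.Scheme
import Groth.Agent.H06QR.Basic
import Mathlib

/-!
# Removing a part of a quasi-regular or `H₁`-regular sequence
-/

set_option autoImplicit false
set_option linter.style.haveILetI false

universe u

open MvPolynomial

namespace Groth.Agent.H11Split

variable {A B : Type u} [CommRing A] [CommRing B] (q : A →+* B)

/-- `H₁`-regularity passes to the quotient by part of the sequence. -/
theorem h1_split (hq : Function.Surjective q) {m n c : ℕ} (σ : Fin m ⊕ Fin n ≃ Fin c) {f : Fin c → A}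
    (hf : CAlgX.IsH1Regular f)
    (hker : RingHom.ker q = Ideal.span (Set.range fun j => f (σ (Sum.inr j)))) :
    CAlgX.IsH1Regular fun i => q (f (σ (Sum.inl i))) := by
  classical
  intro b hb
  choose b' hb' using fun i => hq (b i)
  have h0 : ∑ i, b' i * f (σ (Sum.inl i)) ∈ RingHom.ker q := by
    rw [RingHom.mem_ker, map_sum]
    simpa [hb'] using hb
  rw [hker, Ideal.mem_span_range_iff_exists_fun] at h0
  obtain ⟨d, hd⟩ := h0
  let a : Fin c → A := fun s => Sum.elim b' (fun j => -d j) (σ.symm s)
  have ha : ∑ s, a s * f s = 0 := by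
    rw [← σ.sum_comp, Fintype.sum_sum_type]
    simp only [a, Equiv.symm_apply_apply, Sum.elim_inl, Sum.elim_inr, neg_mul, Finset.sum_neg_distrib]
    rw [hd, add_neg_cancel]
  have hspan := hf a ha
  let g : Fin m → B := fun i => q (f (σ (Sum.inl i)))
  let N := Submodule.span B {v : Fin m → B | ∃ i j : Fin m, v = Pi.single i (g j) - Pi.single j (g i)}
  have key : ∀ v ∈ Submodule.span A {v : Fin c → A | ∃ i j : Fin c, v = Pi.single i (f j) - Pi.single j (f i)},
      (fun i : Fin m => q (v (σ (Sum.inl i)))) ∈
        Submodule.span B {v : Fin m → B | ∃ i j : Fin m, v = Pi.single i (g j) - Pi.single j (g i)} := by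
    intro v hv
    induction hv using Submodule.span_induction with
    | mem v hv =>
      obtain ⟨s, t, rfl⟩ := hv
      have hz : ∀ j, q (f (σ (Sum.inr j))) = 0 := fun j =>
        RingHom.mem_ker.1 (hker.ge (Ideal.subset_span ⟨j, rfl⟩))
      obtain ⟨s, rfl⟩ := σ.surjective s
      obtain ⟨t, rfl⟩ := σ.surjective t
      rcases s with s | s <;> rcases t with t | t
      · refine Submodule.subset_span ⟨s, t, funext fun i => ?_⟩
        simp only [Pi.sub_apply, map_sub, Pi.single_apply, σ.injective.eq_iff, Sum.inl.injEq, g]
        split_ifs <;> simp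
      · convert N.zero_mem using 1
        funext i
        simp [Pi.single_apply, σ.injective.eq_iff, apply_ite q, hz]
      · convert N.zero_mem using 1
        funext i
        simp [Pi.single_apply, σ.injective.eq_iff, apply_ite q, hz]
      · convert N.zero_mem using 1
        funext i
        simp [σ.injective.eq_iff]
    | zero => simp only [Pi.zero_apply, map_zero]; exact zero_mem _
    | add x y _ _ hx hy => simp only [Pi.add_apply, map_add]; exact add_mem hx hy
    | smul r x _ hx => simp only [Pi.smul_apply, smul_eq_mul, map_mul]; exact Submodule.smul_mem _ (q r) hx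
  have hbv : b = fun i => q (a (σ (Sum.inl i))) := by
    funext i
    simp [a, hb']
  rw [hbv]
  exact key a hspan

/-- Quasi-regularity passes to the quotient by the last member of the sequence. -/
theorem quasi_drop_last (hq : Function.Surjective q) {c : ℕ} {f : Fin (c + 1) → A} (hf : CAlgX.IsQuasiRegular f)
    (hker : RingHom.ker q = Ideal.span {f (Fin.last c)}) :
    CAlgX.IsQuasiRegular fun i : Fin c => q (f i.castSucc) := by
  classical
  intro n P hP hPe d
  let K := Ideal.span (Set.range f)
  let Kb := Ideal.span (Set.range fun i : Fin c => q (f i.castSucc))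
  have hqh : q (f (Fin.last c)) = 0 := RingHom.mem_ker.1 (hker.ge (Ideal.mem_span_singleton_self _))
  have hK : K.map q = Kb := by
    refine le_antisymm ?_ (Ideal.span_le.2 ?_)
    · rw [Ideal.map_le_iff_le_comap, Ideal.span_le]
      rintro _ ⟨s, rfl⟩
      refine Fin.lastCases ?_ (fun i => Ideal.subset_span ⟨i, rfl⟩) s
      rw [SetLike.mem_coe, Ideal.mem_comap, hqh]
      exact zero_mem _
    · rintro _ ⟨i, rfl⟩
      exact Ideal.mem_map_of_mem _ (Ideal.subset_span ⟨_, rfl⟩)
  by_cases hn : n = 0
  · subst hn
    by_cases hd : coeff d P = 0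
    · rw [hd]; exact zero_mem _
    · have hd0 : d = 0 := by
        refine (Finsupp.degree_eq_zero_iff d).1 ?_
        rw [Finsupp.degree_eq_weight_one]
        exact hP hd
      subst hd0
      rw [MvPolynomial.eval_eq] at hPe
      rw [pow_one] at hPe
      have hsup : P.support = {0} := by
        refine Finset.eq_singleton_iff_unique_mem.2 ⟨MvPolynomial.mem_support_iff.2 hd, fun e he => ?_⟩
        refine (Finsupp.degree_eq_zero_iff e).1 ?_
        rw [Finsupp.degree_eq_weight_one]
        exact hP (MvPolynomial.mem_support_iff.1 he)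
      rw [hsup] at hPe
      simpa using hPe
  obtain ⟨m, rfl⟩ := Nat.exists_eq_succ_of_ne_zero hn
  choose l hl using hq
  let P' : MvPolynomial (Fin c) A := ∑ e ∈ P.support, monomial e (l (coeff e P))
  have hP'h : P'.IsHomogeneous (m + 1) := IsHomogeneous.sum _ _ _ fun e he =>
    isHomogeneous_monomial _ (by rw [Finsupp.degree_eq_weight_one]; exact hP (mem_support_iff.1 he))
  have hmap : P'.map q = P := by
    simp only [P', map_sum, map_monomial, hl]
    exact (as_sum P).symm
  let P'' : MvPolynomial (Fin (c + 1)) A := rename Fin.castSucc P'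
  have hP''h : P''.IsHomogeneous (m + 1) := hP'h.rename_isHomogeneous
  have hev : q (eval f P'') = eval (fun i : Fin c => q (f i.castSucc)) P := by
    rw [show eval f P'' = eval (f ∘ Fin.castSucc) P' from eval_rename _ _ _, ← hmap, eval_map]
    exact MvPolynomial.eval₂_comp_left q (RingHom.id A) (f ∘ Fin.castSucc) P'
  have hmem : eval f P'' ∈ Ideal.comap q (Ideal.map q (K ^ (m + 1 + 1))) := by
    rw [Ideal.mem_comap, hev, Ideal.map_pow, hK]
    exact hPe
  rw [Ideal.comap_map_of_surjective' q (fun b => ⟨l b, hl b⟩), hker] at hmem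
  obtain ⟨k, hk, z, hz, hkz⟩ := Submodule.mem_sup.1 hmem
  obtain ⟨a, rfl⟩ := Ideal.mem_span_singleton'.1 hz
  have hstep : ∀ t ≤ m, a ∈ K ^ t := by
    intro t
    induction t with
    | zero => intro; rw [pow_zero, Ideal.one_eq_top]; trivial
    | succ t ih =>
      intro ht
      obtain ⟨Q, hQ, rfl⟩ := H06QR.exists_homogeneous f (ih (by omega))
      have h1 : eval f (Q * X (Fin.last c)) ∈ K ^ (t + 1 + 1) := by
        rw [map_mul, eval_X, show eval f Q * f (Fin.last c) = eval f P'' - k by rw [← hkz]; ring]
        exact Ideal.pow_le_pow_right (by omega) (sub_mem (H06QR.eval_mem f hP''h) (Ideal.pow_le_pow_right (by omega) hk))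
      have h2 := hf (t + 1) (Q * X (Fin.last c)) (hQ.mul (isHomogeneous_X A _)) h1
      rw [MvPolynomial.eval_eq]
      refine Ideal.sum_mem _ fun e he => ?_
      rw [pow_succ']
      refine Ideal.mul_mem_mul ?_ ?_
      · have := h2 (e + Finsupp.single (Fin.last c) 1)
        rwa [coeff_mul_X] at this
      · have h3 := H06QR.eval_mem f (isHomogeneous_monomial (1 : A) (show e.degree = t by
          rw [Finsupp.degree_eq_weight_one]; exact hQ (mem_support_iff.1 he)))
        rw [eval_monomial, one_mul] at h3
        exact h3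
  obtain ⟨Q, hQ, rfl⟩ := H06QR.exists_homogeneous f (hstep m le_rfl)
  have hR : eval f (P'' - Q * X (Fin.last c)) ∈ K ^ (m + 1 + 1) := by
    rw [map_sub, map_mul, eval_X, ← hkz, add_sub_cancel_right]
    exact hk
  have h4 := hf (m + 1) _ (hP''h.sub (hQ.mul (isHomogeneous_X A _))) hR (d.mapDomain Fin.castSucc)
  have hlast : d.mapDomain Fin.castSucc (Fin.last c) = 0 :=
    Finsupp.mapDomain_of_notMem_range d _ fun ⟨i, hi⟩ => Fin.castSucc_ne_last i hi
  rw [coeff_sub, coeff_rename_mapDomain _ (Fin.castSucc_injective c), coeff_mul_X', if_neg (by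
    rw [Finsupp.mem_support_iff, not_not]; exact hlast), sub_zero] at h4
  have h5 := Ideal.mem_map_of_mem q h4
  rw [hK, ← coeff_map, hmap] at h5
  exact h5

/-- Quasi-regularity passes to the quotient by a tail of the sequence. -/
theorem quasi_split {m : ℕ} : ∀ {n : ℕ} {A : Type u} [CommRing A] (q : A →+* B), Function.Surjective q →
    ∀ {f : Fin (m + n) → A}, CAlgX.IsQuasiRegular f →
      RingHom.ker q = Ideal.span (Set.range fun j => f (Fin.natAdd m j)) →
        CAlgX.IsQuasiRegular fun i => q (f (Fin.castAdd n i)) := by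
  intro n
  induction n with
  | zero =>
    intro A _ q hq f hf hker
    letI := q.toAlgebra
    have hinj : Function.Injective q := (RingHom.injective_iff_ker_eq_bot q).2 (by
      rw [hker, Ideal.span_eq_bot]; rintro _ ⟨j, rfl⟩; exact j.elim0)
    haveI := H29Slice.isLocalization_bot_of_bijective (R := A) (L := B) ⟨hinj, hq⟩
    exact H29Slice.isQuasiRegular_localization (L := B) (⊥ : Submonoid A) hf
  | succ n ih =>
    intro A _ q hq f hf hker
    let I : Ideal A := Ideal.span {f (Fin.last (m + n))}
    have hI : I ≤ RingHom.ker q := by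
      rw [hker, Ideal.span_le, Set.singleton_subset_iff]
      exact Ideal.subset_span ⟨Fin.last n, rfl⟩
    have h1 := quasi_drop_last (Ideal.Quotient.mk I) Ideal.Quotient.mk_surjective (c := m + n) hf Ideal.mk_ker
    have h2 := ih (Ideal.Quotient.lift I q fun a ha => hI ha) (Ideal.Quotient.lift_surjective_of_surjective I _ hq) h1 ?_
    · exact h2
    refine le_antisymm (fun x hx => ?_) (Ideal.span_le.2 ?_)
    · obtain ⟨a, rfl⟩ := Ideal.Quotient.mk_surjective x
      rw [RingHom.mem_ker, Ideal.Quotient.lift_mk, ← RingHom.mem_ker, hker] at hx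
      refine (Ideal.map_le_iff_le_comap.2 (Ideal.span_le.2 ?_)) (Ideal.mem_map_of_mem (Ideal.Quotient.mk I) hx)
      rintro _ ⟨j, rfl⟩
      refine Fin.lastCases ?_ (fun i => Ideal.subset_span ⟨i, rfl⟩) j
      rw [SetLike.mem_coe, Ideal.mem_comap, Ideal.Quotient.eq_zero_iff_mem.2 (show f (Fin.natAdd m (Fin.last n)) ∈ I from
        Ideal.subset_span rfl)]
      exact zero_mem _
    · rintro _ ⟨j, rfl⟩
      rw [SetLike.mem_coe, RingHom.mem_ker]
      show q (f (Fin.natAdd m j.castSucc)) = 0
      exact RingHom.mem_ker.1 (hker.ge (Ideal.subset_span ⟨j.castSucc, rfl⟩))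

/-- Regularity of every kind but the plain one passes to the quotient by part of the sequence. -/
theorem seq_of_append {k : RegImm.Kind} (hk : k ≠ RegImm.Kind.regular) (hq : Function.Surjective q) {g f : List A}
    (hker : RingHom.ker q = Ideal.ofList f) (h : k.Seq A (g ++ f))
    (hf : k = RegImm.Kind.koszul → LCI.IsKoszulRegularSeq A f) : k.Seq B (g.map q) := by
  classical
  cases k with
  | regular => exact absurd rfl hk
  | koszul => exact H17.KoszCancel.isKoszulRegularSeq_of_append q hq (hf rfl) hker h
  | h1 =>
    refine H29Slice.get_map_transfer (fun _ v => CAlgX.IsH1Regular v) q g ?_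
    let σ : Fin g.length ⊕ Fin f.length ≃ Fin (g ++ f).length :=
      finSumFinEquiv.trans (finCongr List.length_append.symm)
    have hr : (Set.range fun j => (g ++ f).get (σ (Sum.inr j))) = Set.range f.get :=
      congrArg Set.range (funext fun j => by simp [σ])
    have := h1_split q hq σ (f := (g ++ f).get) h (by rw [hr, hker, Set.range_list_get])
    convert this using 2 with i
    simp [σ]
  | quasi =>
    refine H29Slice.get_map_transfer (fun _ v => CAlgX.IsQuasiRegular v) q g ?_
    let v : Fin (g.length + f.length) → A := fun i => (g ++ f).get (Fin.cast List.length_append.symm i)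
    have hv : CAlgX.IsQuasiRegular v := by
      have key : ∀ (n : ℕ) (e : n = (g ++ f).length), CAlgX.IsQuasiRegular fun i => (g ++ f).get (Fin.cast e i) := by
        rintro n rfl; exact h
      exact key _ _
    have hr : (Set.range fun j => v (Fin.natAdd g.length j)) = Set.range f.get :=
      congrArg Set.range (funext fun j => by simp [v])
    have := quasi_split q hq hv (by rw [hr, hker, Set.range_list_get])
    convert this using 2 with i
    simp [v]

end Groth.Agent.H11Split
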