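import Groth.Agent.H29Ref.ConormalQReg
import Groth.Agent.H16Derived.KFlat.LocalLift
import Groth.Agent.H11Split.Conormal
import Mathlib

/-!
# Splitting of the conormal sequence near a regular point

`exists_freeNear_conormal` is the pointwise form of `H29Ref.ConormalQReg.isFinLocFree_conormal_of_quasi`.
-/

set_option autoImplicit false
set_option linter.style.haveILetI false
set_option maxHeartbeats 400000

universe u

open CategoryTheory CategoryTheory.Limits AlgebraicGeometry TopologicalSpace TensorProduct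

namespace Groth.Agent.H11Split

open Groth.Agent.H06Mod Groth.Agent.H29Omega Groth.Agent.H17.Conormal

attribute [local instance] Groth.Agent.H06Mod.stalkAlgebra

variable {Z Y X : Scheme.{u}}

/-- Sections finitely presented and flat over an affine open: free near each of its points. -/
theorem exists_freeNear {M : Z.Modules} (hM : Coh.IsQCoh M) {U : Z.Opens} (hU : IsAffineOpen U) {z : Z} (hzU : z ∈ U)
    (hfp : Module.FinitePresentation Γ(Z, U) Γ(M, U)) (hfl : Module.Flat Γ(Z, U) Γ(M, U)) :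
    ∃ V : Z.Opens, z ∈ V ∧ H16Derived.KFlat.Stalk.FreeNear M V := by
  haveI : Module.Free (Localization.AtPrime (hU.primeIdealOf ⟨z, hzU⟩).asIdeal)
      (LocalizedModule (hU.primeIdealOf ⟨z, hzU⟩).asIdeal.primeCompl Γ(M, U)) :=
    Module.free_of_flat_of_isLocalRing
  obtain ⟨f, r, m, hf, hs, hi⟩ := H8Props.FinLocFree.exists_basis_upTo (M := Γ(M, U))
    (hU.primeIdealOf ⟨z, hzU⟩).asIdeal
  haveI := H8Props.FinLocFree.isIso_basicHom M hM hU f m hs hi
  refine ⟨Z.basicOpen f, ?_, r, ⟨((Scheme.Modules.restrictFunctorIsoPullback (Z.basicOpen f).ι).app M).symm ≪≫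
    (asIso (H29Fitt.basicHom M f m)).symm⟩⟩
  by_contra hn
  refine hf ((_root_.H29Blow.mem_primeIdealOf_iff hU ⟨z, hzU⟩ f).mpr fun hu => hn ?_)
  exact (Z.mem_basicOpen f z hzU).mpr hu

/-- The conormal sheaf is free near a point of quasi-regularity. -/
theorem exists_freeNear_conormal (i : Z ⟶ X) [IsImmersion i] [QuasiCompact i] (z : Z)
    (hi : RegImm.IsRegularImmersionAt .quasi i z) :
    ∃ V : Z.Opens, z ∈ V ∧ H16Derived.KFlat.Stalk.FreeNear (Omega.conormal i) V := by
  classical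
  obtain ⟨U, hzU, hcl, rs, hrs, hker⟩ := hi
  haveI := hcl
  obtain ⟨happ, hBU⟩ := H17.app_surjective_of_restrict i U.2
  suffices hsec : Module.FinitePresentation Γ(Z, i ⁻¹ᵁ U.1) Γ(Omega.conormal i, i ⁻¹ᵁ U.1) ∧
      Module.Flat Γ(Z, i ⁻¹ᵁ U.1) Γ(Omega.conormal i, i ⁻¹ᵁ U.1) from
    exists_freeNear (H29Fitt.isQCoh_pullback i _ (H17.OmegaLocal.isQuasicoherent_idealMod i.ker)) hBU hzU hsec.1 hsec.2
  obtain ⟨hsurj, hkerQ⟩ := H17.PullSect.isQuotOn_of_isAffineOpen i (ClSub.idealMod i.ker)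
    (H17.OmegaLocal.isQuasicoherent_idealMod i.ker) U.2
  have hK : RingHom.ker (i.app U.1).hom = i.ker.ideal U := (Scheme.Hom.ker_apply i U).symm
  set K := RingHom.ker (i.app U.1).hom with hKdef
  choose L hL using fun a : K => (H29Blow.mem_ideal_iff_exists_idealSect i.ker U.2 a.1).1 (hK.le a.2)
  have hinj := H29Blow.idealSect_injective i.ker U.1
  let C := Omega.conormal i
  let e : K →+ Γ(C, i ⁻¹ᵁ U.1) :=
    { toFun := fun a => OmegaSh.pullSect i (ClSub.idealMod i.ker) U.1 (L a)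
      map_zero' := by
        rw [show L 0 = 0 from hinj (by rw [hL, map_zero]; rfl)]
        exact map_zero _
      map_add' := fun a b => by
        rw [show L (a + b) = L a + L b from hinj (by rw [hL, map_add, hL, hL]; rfl)]
        exact map_add _ _ _ }
  have he_smul : ∀ (x : Γ(X, U.1)) a, e (x • a) = i.app U.1 x • e a := fun x a => by
    show OmegaSh.pullSect i (ClSub.idealMod i.ker) U.1 (L (x • a)) = _
    rw [show L (x • a) = x • L a from hinj (by rw [hL, H29Blow.idealSect_smul, hL]; rfl)]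
    exact Scheme.Modules.Hom.app_smul _ x (L a)
  have he_surj : Function.Surjective e := fun n => by
    obtain ⟨m, rfl⟩ := hsurj n
    have hm : OmegaSh.idealSect i.ker U.1 m ∈ K :=
      hK.ge ((H29Blow.mem_ideal_iff_exists_idealSect i.ker U.2 _).2 ⟨m, rfl⟩)
    exact ⟨⟨_, hm⟩, congrArg (OmegaSh.pullSect i (ClSub.idealMod i.ker) U.1) (hinj (hL ⟨_, hm⟩))⟩
  have he_ker : ∀ a, e a = 0 → (a : Γ(X, U.1)) ∈ K ^ 2 := by
    intro a ha
    rw [← hL a]
    refine Submodule.smul_induction_on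
      (p := fun m => OmegaSh.idealSect i.ker U.1 m ∈ K ^ 2) (hkerQ (L a) ha) (fun r hr n _ => ?_)
      fun m n hm hn => by rw [map_add]; exact add_mem hm hn
    rw [H29Blow.idealSect_smul, pow_two]
    exact Ideal.mul_mem_mul hr (hK.ge ((H29Blow.mem_ideal_iff_exists_idealSect i.ker U.2 _).2 ⟨n, rfl⟩))
  have hspan : Ideal.span (Set.range rs.get) = K := by
    rw [hker]
    refine congrArg Ideal.span (Set.ext fun y => ?_)
    exact ⟨fun ⟨k, hk⟩ => hk ▸ List.get_mem rs k, fun hy => (List.mem_iff_get.1 hy).imp fun k hk => hk⟩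
  have hfK : ∀ k, rs.get k ∈ K := fun k => hspan ▸ Ideal.subset_span ⟨k, rfl⟩
  obtain ⟨hli, -⟩ := H06QR.cotangent_basis hrs hspan (fun k => ⟨rs.get k, hfK k⟩) fun k => rfl
  have hind : LinearIndependent Γ(Z, i ⁻¹ᵁ U.1) fun k => e ⟨rs.get k, hfK k⟩ := by
    rw [Fintype.linearIndependent_iff] at hli ⊢
    intro c hc k
    choose a ha using fun k => happ (c k)
    have h0 : e (∑ k, a k • (⟨rs.get k, hfK k⟩ : K)) = 0 := by
      rw [map_sum]
      refine Eq.trans (Finset.sum_congr rfl fun k _ => ?_) hc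
      rw [he_smul]
      exact congrArg (· • e ⟨rs.get k, hfK k⟩) (ha k)
    have h1 : K.toCotangent (∑ k, a k • (⟨rs.get k, hfK k⟩ : K)) = 0 :=
      (Ideal.toCotangent_eq_zero _ _).2 (he_ker _ h0)
    rw [map_sum] at h1
    have h2 := hli (fun k => Ideal.Quotient.mk K (a k)) (Eq.trans (Finset.sum_congr rfl fun k _ => by
      rw [map_smul]
      exact algebraMap_smul (Γ(X, U.1) ⧸ K) (a k) _) h1) k
    rw [← ha k]
    exact Ideal.Quotient.eq_zero_iff_mem.1 h2
  have hsp : ⊤ ≤ Submodule.span Γ(Z, i ⁻¹ᵁ U.1) (Set.range fun k => e ⟨rs.get k, hfK k⟩) := by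
    rintro n -
    obtain ⟨a, rfl⟩ := he_surj n
    obtain ⟨a, ha⟩ := a
    have hmem : a ∈ Ideal.span (Set.range rs.get) := hspan.symm ▸ ha
    obtain ⟨c, hc⟩ := Ideal.mem_span_range_iff_exists_fun.1 hmem
    rw [show (⟨a, ha⟩ : K) = ∑ k, c k • (⟨rs.get k, hfK k⟩ : K) from
      Subtype.ext (hc.symm.trans (by rw [AddSubmonoidClass.coe_finsetSum]; rfl)), map_sum]
    refine Submodule.sum_mem _ fun k _ => ?_
    rw [he_smul]
    exact Submodule.smul_mem _ _ (Submodule.subset_span ⟨k, rfl⟩)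
  haveI := Module.Free.of_basis (Module.Basis.mk hind hsp)
  haveI := Module.Finite.of_basis (Module.Basis.mk hind hsp)
  exact ⟨Module.finitePresentation_of_projective _ _, inferInstance⟩

/-- Left exactness of the restricted conormal sequence where the first immersion is `H₁`-regular. -/
theorem mono_restrict (f : Y ⟶ X) [IsImmersion f] [QuasiCompact f] (j : Z ⟶ Y) [IsImmersion j] [QuasiCompact j]
    {φ₁ : (Scheme.Modules.pullback j).obj (Omega.conormal f) ⟶ Omega.conormal (j ≫ f)}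
    (hφ₁ : OmegaSh.IsConormalMap (j ≫ f) f (𝟙 X) j φ₁) (U : Z.Opens)
    (hU : ∀ z ∈ U, RegImm.IsRegularImmersionAt .h1 j z) :
    Mono ((Scheme.Modules.restrictFunctor U.ι).map φ₁) := by
  haveI : Mono ((Scheme.Modules.pullback U.ι).map φ₁) := mono_of_injective_stalkLin _ fun x => by
    have hb := fun M => H17.StalkTransfer.pullStalk_bijective U.ι M x
    intro a b hab
    obtain ⟨a, rfl⟩ := (hb _).2 a
    obtain ⟨b, rfl⟩ := (hb _).2 b
    exact congrArg _ (H29Ref.ConormalQReg.injective_stalkLin_of_h1Reg f j hφ₁ (U.ι x) (hU _ x.2)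
      ((hb _).1 (((pullStalk_naturality U.ι _ x φ₁ a).symm.trans hab).trans (pullStalk_naturality U.ι _ x φ₁ b))))
  exact ((MorphismProperty.monomorphisms _).arrow_mk_iso_iff
    (Arrow.isoMk ((Scheme.Modules.restrictFunctorIsoPullback U.ι).app _) ((Scheme.Modules.restrictFunctorIsoPullback U.ι).app _)
      ((Scheme.Modules.restrictFunctorIsoPullback U.ι).hom.naturality φ₁).symm)).2
    (MorphismProperty.monomorphisms.infer_property _)

/-- Near a regular point of the first immersion the conormal sequence is split short exact. -/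
theorem exists_splitting (f : Y ⟶ X) [IsImmersion f] [QuasiCompact f] (j : Z ⟶ Y) [IsImmersion j] [QuasiCompact j]
    {φ₁ : (Scheme.Modules.pullback j).obj (Omega.conormal f) ⟶ Omega.conormal (j ≫ f)}
    (hφ₁ : OmegaSh.IsConormalMap (j ≫ f) f (𝟙 X) j φ₁)
    {φ₂ : (Scheme.Modules.pullback (𝟙 Z)).obj (Omega.conormal (j ≫ f)) ⟶ Omega.conormal j}
    (hφ₂ : OmegaSh.IsConormalMap j (j ≫ f) f (𝟙 Z) φ₂) (z : Z) (hj : RegImm.IsRegularImmersionAt .h1 j z)
    (hjq : RegImm.IsRegularImmersionAt .quasi j z) :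
    ∃ U : Z.Opens, z ∈ U ∧ ∀ w : (Scheme.Modules.restrictFunctor U.ι).map φ₁ ≫ (Scheme.Modules.restrictFunctor U.ι).map
        ((Scheme.Modules.pullbackId Z).inv.app (Omega.conormal (j ≫ f)) ≫ φ₂) = 0,
      Nonempty (ShortComplex.mk ((Scheme.Modules.restrictFunctor U.ι).map φ₁) ((Scheme.Modules.restrictFunctor U.ι).map
        ((Scheme.Modules.pullbackId Z).inv.app (Omega.conormal (j ≫ f)) ≫ φ₂)) w).Splitting := by
  obtain ⟨w₀, hex, hepi, -⟩ := H17.Conormal.exact_conormal f j hφ₁ hφ₂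
  let g := (Scheme.Modules.pullbackId Z).inv.app (Omega.conormal (j ≫ f)) ≫ φ₂
  haveI := hepi
  haveI : Epi g := epi_comp _ _
  obtain ⟨V, hzV, hV⟩ := exists_freeNear_conormal j z hjq
  obtain ⟨U₁, hzU₁, hcl, rs, hrs, hker⟩ := hj
  let V' : Z.Opens := V ⊓ j ⁻¹ᵁ U₁.1
  have hzV' : z ∈ V' := ⟨hzV, hzU₁⟩
  let S : ShortComplex Z.Modules := ShortComplex.mk g (0 : Omega.conormal j ⟶ Omega.conormal j) comp_zero
  have hS : S.Exact := (ShortComplex.exact_iff_epi S rfl).2 ‹Epi g›
  obtain ⟨W, hW, ψ, hzW, hψ⟩ := H16Derived.KFlat.Stalk.exists_lift_restrict hS hzV' (hV.mono inf_le_left)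
    (𝟙 ((Omega.conormal j).restrict V'.ι)) (by
      show 𝟙 _ ≫ (Scheme.Modules.restrictFunctor V'.ι).map (0 : Omega.conormal j ⟶ Omega.conormal j) = 0
      rw [Functor.map_zero, comp_zero])
  have hid : H16Derived.KFlat.Stalk.res' hW (𝟙 ((Omega.conormal j).restrict V'.ι)) = 𝟙 _ := by
    have := H16Derived.KFlat.Stalk.res'_map hW (𝟙 (Omega.conormal j))
    rwa [CategoryTheory.Functor.map_id, CategoryTheory.Functor.map_id] at this
  refine ⟨W, hzW, fun w => ?_⟩
  haveI := mono_restrict f j hφ₁ W fun y hy => ⟨U₁, (hW hy).2, hcl, rs, hrs, hker⟩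
  exact ⟨ShortComplex.Splitting.ofExactOfSection _ (hex.map (Scheme.Modules.restrictFunctor W.ι)) ψ
    (hψ.trans hid) ‹_›⟩

end Groth.Agent.H11Split
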