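import Groth.Agent.H17.KoszCancel.Scheme
import Groth.Agent.H17.RegQuasi
import Groth.Agent.H29Slice.TransBC
import Mathlib

/-!
# Regular immersions in locally Noetherian schemes: composition and cancellation
-/

set_option autoImplicit false
set_option linter.style.haveILetI false

universe u

open CategoryTheory CategoryTheory.Limits AlgebraicGeometry TopologicalSpace RingTheory.Sequence IsLocalRing

namespace Groth.Agent.H11Split

open Groth.Agent.H17 Groth.Agent.H17.RegDescent

/-- In a Noetherian local ring: if `g ++ f` cuts out the ideal of a quasi-regular sequence and `g` is irredundant and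
`H₁`-regular modulo `f`, then `f` is weakly regular. -/
theorem weaklyRegular_of_split {A B : Type u} [CommRing A] [CommRing B] [IsLocalRing A] [IsNoetherianRing A]
    [IsLocalRing B] (q : A →+* B) (hq : Function.Surjective q) {g f rs : List A} (hker : RingHom.ker q = Ideal.ofList f)
    (hf : Irred f) (hg : CAlgX.IsH1Regular (fun l => q (g.get l))) (hgirr : Irred (g.map q))
    (hrs : RegImm.Kind.quasi.Seq A rs) (heq : Ideal.ofList rs = Ideal.ofList (g ++ f))
    (hne : Ideal.ofList rs ≠ ⊤) : IsWeaklyRegular A f := by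
  classical
  have hk : RegImm.Kind.quasi ≠ RegImm.Kind.regular := by decide
  have hKm : Ideal.ofList (g ++ f) ≤ maximalIdeal A := IsLocalRing.le_maximalIdeal (heq ▸ hne)
  have hgm : ∀ l, g.get l ∈ maximalIdeal A := fun l =>
    hKm (Ideal.subset_span (List.mem_append_left _ (List.get_mem g l)))
  have hcoeff : ∀ w ∈ maximalIdeal A * Ideal.ofList g,
      ∃ a : Fin g.length → A, (∀ l, a l ∈ maximalIdeal A) ∧ w = ∑ l, a l * g.get l := by
    intro w hw
    refine Submodule.mul_induction_on hw (fun r hr s hs => ?_) fun x y hx hy => ?_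
    · obtain ⟨c, hc⟩ := Ideal.mem_span_range_iff_exists_fun.1
        (show s ∈ Ideal.span (Set.range g.get) by rwa [Set.range_list_get])
      exact ⟨fun l => r * c l, fun l => Ideal.mul_mem_right _ _ hr, by rw [← hc, Finset.mul_sum]; simp only [mul_assoc]⟩
    · obtain ⟨a, ha, rfl⟩ := hx
      obtain ⟨b, hb, rfl⟩ := hy
      exact ⟨a + b, fun l => add_mem (ha l) (hb l), by simp only [Pi.add_apply, add_mul, Finset.sum_add_distrib]⟩
  have hqf : ∀ {y}, y ∈ Ideal.ofList f → q y = 0 := fun hy => RingHom.mem_ker.1 (hker.ge hy)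
  have H : ∀ w ∈ Ideal.ofList f, w ∈ maximalIdeal A * Ideal.ofList (g ++ f) → w ∈ maximalIdeal A * Ideal.ofList f := by
    intro w hwf hw
    rw [Ideal.ofList_append, Ideal.mul_sup] at hw
    obtain ⟨w₁, hw₁, w₂, hw₂, rfl⟩ := Submodule.mem_sup.1 hw
    obtain ⟨a, ha, rfl⟩ := hcoeff w₁ hw₁
    have h0 : ∑ l, q (a l) * q (g.get l) = 0 := by
      have h1 := hqf hwf
      rw [map_add, hqf (y := w₂) (Ideal.mul_le_right hw₂), add_zero, map_sum] at h1
      simpa only [map_mul] using h1
    have hspan := hg _ h0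
    have key : ∀ v ∈ Submodule.span B {v : Fin g.length → B | ∃ i j, v = Pi.single i (q (g.get j)) - Pi.single j (q (g.get i))},
        Function.Surjective q → ∃ c : Fin g.length → A, ∑ l, c l * g.get l = 0 ∧ ∀ l, q (c l) = v l := by
      intro v hv hq
      induction hv using Submodule.span_induction with
      | mem v hv =>
        obtain ⟨i, j, rfl⟩ := hv
        refine ⟨Pi.single i (g.get j) - Pi.single j (g.get i), ?_, fun l => ?_⟩
        · simp only [Pi.sub_apply, sub_mul, Finset.sum_sub_distrib, Pi.single_apply, ite_mul, zero_mul,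
            Finset.sum_ite_eq', Finset.mem_univ, if_true]
          ring
        · simp only [Pi.sub_apply, map_sub, Pi.single_apply, apply_ite q, map_zero]
      | zero => exact ⟨0, by simp, fun l => map_zero q⟩
      | add x y _ _ hx hy =>
        obtain ⟨c, hc, hcq⟩ := hx
        obtain ⟨d, hd, hdq⟩ := hy
        exact ⟨c + d, by simp only [Pi.add_apply, add_mul, Finset.sum_add_distrib, hc, hd, add_zero],
          fun l => by simp [hcq, hdq]⟩
      | smul r x _ hx =>
        obtain ⟨c, hc, hcq⟩ := hx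
        obtain ⟨r, rfl⟩ := hq r
        exact ⟨fun l => r * c l, by simp only [mul_assoc, ← Finset.mul_sum, hc, mul_zero], fun l => by simp [hcq]⟩
    obtain ⟨c, hc, hcq⟩ := key _ hspan hq
    refine add_mem ?_ hw₂
    rw [show ∑ l, a l * g.get l = ∑ l, (a l - c l) * g.get l by
      simp only [sub_mul, Finset.sum_sub_distrib, hc, sub_zero]]
    refine Ideal.sum_mem _ fun l _ => ?_
    rw [mul_comm (a l - c l)]
    refine Ideal.mul_mem_mul (hgm l) (hker.le ?_)
    rw [RingHom.mem_ker, map_sub, hcq, sub_self]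
  have hirr : Irred (g ++ f) := by
    refine KoszCancel.irred_append g f hf H fun l₁ b l₂ hgd hb => ?_
    refine hgirr (l₁.map q) (q b) (l₂.map q) (by rw [hgd]; simp) ?_
    have h1 := Ideal.mem_map_of_mem q hb
    rw [Ideal.ofList_append, Ideal.map_sup, Ideal.map_ofList, List.map_append, ← hker,
      show (RingHom.ker q).map q = ⊥ from (Ideal.map_eq_bot_iff_le_ker q).2 le_rfl, sup_bot_eq] at h1
    exact h1
  have hrsirr : Irred rs := irred_of_quasi hrs hne
  have hlen : rs.length = (g ++ f).length :=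
    le_antisymm (length_le_of_irred hrsirr heq.symm) (length_le_of_irred hirr heq)
  have heq' : Ideal.ofList rs = Ideal.ofList (f ++ g) := heq.trans (ofList_perm List.perm_append_comm)
  have hirr' : Irred (f ++ g) := irred_of_min fun l hl => by
    have h1 := length_le_of_irred hirr (hl.trans (ofList_perm List.perm_append_comm))
    simp only [List.length_append] at h1 ⊢
    omega
  have hseq := seq_change hk hrs hirr' heq' (by rw [hlen]; simp [add_comm])
  have hw := H29Slice.isWeaklyRegular_of_isQuasiRegular A (f ++ g).get (fun i => by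
    rw [IsLocalRing.jacobson_eq_maximalIdeal _ bot_ne_top]
    exact hKm ((ofList_perm List.perm_append_comm).le (Ideal.subset_span (List.get_mem (f ++ g) i)))) hseq
  rw [List.ofFn_get, isWeaklyRegular_append_iff] at hw
  exact hw.1

variable {X Y Z : Scheme.{u}}

/-- A weakly regular sequence of germs generating the ideal of an immersion spreads to a regular chart. -/
theorem regularAt_of_stalk [IsLocallyNoetherian X] (i : Y ⟶ X) (y : Y) (U : X.affineOpens) (hy : i y ∈ U.1)
    (hcl : IsClosedImmersion (i ∣_ U.1)) (rs : List Γ(X, U.1)) (hker : RingHom.ker (i.app U.1).hom = Ideal.ofList rs)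
    (hw : IsWeaklyRegular (X.presheaf.stalk (i y)) (rs.map (X.presheaf.germ U.1 (i y) hy).hom)) :
    RegImm.IsRegularImmersionAt .regular i y := by
  let R := Γ(X, U.1)
  haveI : IsNoetherianRing R := IsLocallyNoetherian.component_noetherian U
  let p := (U.2.primeIdealOf ⟨i y, hy⟩).asIdeal
  letI : Algebra R (X.presheaf.stalk (i y)) := (X.presheaf.germ U.1 (i y) hy).hom.toAlgebra
  haveI : IsLocalization.AtPrime (X.presheaf.stalk (i y)) p := U.2.isLocalization_stalk ⟨i y, hy⟩
  let v : Fin (rs.map (algebraMap R (X.presheaf.stalk (i y)))).length → X.presheaf.stalk (i y) :=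
    (rs.map (algebraMap R _)).get
  obtain ⟨t, ht, b, hb⟩ := H13CInt.exists_away_isWeaklyRegular p (Ideal.ofList rs) v
    (by simp only [v, List.ofFn_get]; exact hw) (by
      rw [Ideal.map_ofList]
      exact congrArg Ideal.span (Set.ext fun r => List.mem_iff_get))
  letI : Algebra R Γ(X, X.basicOpen t) := (X.presheaf.map (homOfLE (X.basicOpen_le t)).op).hom.toAlgebra
  haveI : IsLocalization.Away t Γ(X, X.basicOpen t) := U.2.isLocalization_basicOpen t
  obtain ⟨h1, h2⟩ := hb Γ(X, X.basicOpen t)
  rw [Ideal.map_ofList] at h1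
  have hxt : i y ∈ X.basicOpen t := by
    rw [X.mem_basicOpen t (i y) hy]
    exact (IsLocalization.AtPrime.isUnit_to_map_iff (X.presheaf.stalk (i y)) p t).2 ht
  have H : IsPullback (𝟙 Y) i i (𝟙 X) := IsPullback.of_horiz_isIso ⟨by simp⟩
  obtain ⟨hcl', hker'⟩ := H29Slice.restrict_baseChange H U.2 hcl (U.2.basicOpen t) (e := X.basicOpen_le t)
  have hk : RingHom.ker (i.app (X.basicOpen t)).hom = Ideal.ofList (List.ofFn (algebraMap Γ(X, U.1) Γ(X, X.basicOpen t) ∘ b)) := by
    rw [hker', hker, Ideal.map_ofList]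
    simp only [Scheme.Hom.appLE, Scheme.Hom.id_app]
    exact h1.trans (congrArg Ideal.span (Set.ext fun r => List.mem_ofFn.symm))
  exact ⟨⟨X.basicOpen t, U.2.basicOpen t⟩, hxt, hcl', _, H29Slice.isRegular_of_mem i y hxt h2 hk, hk⟩

/-- A composite of regular immersions is regular at a point. -/
theorem regularAt_comp [IsLocallyNoetherian X] (i : Y ⟶ X) [IsImmersion i] (j : Z ⟶ Y) (z : Z)
    (hi : RegImm.IsRegularImmersionAt .regular i (j z)) (hj : RegImm.IsRegularImmersionAt .regular j z) :
    RegImm.IsRegularImmersionAt .regular (j ≫ i) z := by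
  obtain ⟨U, hzU, hclU, rs, hrs, hkU⟩ := hi
  obtain ⟨W, hzW, hclW, gs, hgs, hkW⟩ := hj
  obtain ⟨D, hzD, hclD, ts, -, hts, hkD⟩ := KoszComp.exists_chart i j z U hzU hclU rs
    (H29Slice.isKoszulRegular_of_isWeaklyRegular hrs.1) hkU W hzW hclW gs
    (H29Slice.isKoszulRegular_of_isWeaklyRegular hgs.1) hkW
  exact RegQuasi.regularImmersionAt_of_quasi (j ≫ i) z ⟨D, hzD, hclD, ts, quasi_of_seq (k := .koszul) (by decide) hts, hkD⟩

/-- If the first immersion and the composite are regular at a point, so is the second immersion. -/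
theorem regularAt_of_comp [IsLocallyNoetherian X] (i : Y ⟶ X) [IsImmersion i] (j : Z ⟶ Y) [IsImmersion j] (z : Z)
    (hj : RegImm.IsRegularImmersionAt .regular j z) (hij : RegImm.IsRegularImmersionAt .regular (j ≫ i) z) :
    RegImm.IsRegularImmersionAt .regular i (j z) := by
  classical
  have hk : RegImm.Kind.quasi ≠ RegImm.Kind.regular := by decide
  obtain ⟨U₁, hxU₁, -, hcl₁⟩ := exists_affine_closed i (j z) ⊤ (Opens.mem_top _)
  obtain ⟨Uc, hxUc, hclc₀, rc, hrc, hkerc₀⟩ := hij
  obtain ⟨U, hxU, hUle, hclc, rs, hrs, hkerc⟩ := exists_chart_le hk (j ≫ i) z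
    ⟨Uc, hxUc, hclc₀, rc, RegQuasi.quasi_of_regular hrc, hkerc₀⟩ U₁.1 hxU₁
  have H : IsPullback (𝟙 Y) i i (𝟙 X) := IsPullback.of_horiz_isIso ⟨by simp⟩
  obtain ⟨hcli, -⟩ := H29Slice.restrict_baseChange H U₁.2 hcl₁ U.2 (e := hUle)
  haveI : IsNoetherianRing Γ(X, U.1) := IsLocallyNoetherian.component_noetherian U
  obtain ⟨s, hs⟩ := IsNoetherian.noetherian (RingHom.ker (i.app U.1).hom)
  let x := i (j z)
  let A := X.presheaf.stalk x
  let γ := (X.presheaf.germ U.1 x hxU).hom
  obtain ⟨f, hfle, hfgen, hfirr⟩ := exists_min_sublist γ s.toList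
  have hsl : Ideal.ofList s.toList = RingHom.ker (i.app U.1).hom := by
    simp only [Ideal.ofList, Finset.mem_toList]; exact hs
  have hkerq : RingHom.ker (i.stalkMap (j z)).hom = Ideal.ofList (f.map γ) := by
    rw [H29Slice.ker_stalkMap_of_restrict i U hcli (j z) hxU, ← hsl, Ideal.map_ofList, ← hfgen]
  -- the equations of `j`
  obtain ⟨W, hzW, hclW, gs, hgs, hkW⟩ := hj
  letI : Algebra Γ(Y, W.1) (Y.presheaf.stalk (j z)) := (Y.presheaf.germ W.1 (j z) hzW).hom.toAlgebra
  haveI : Module.Flat Γ(Y, W.1) (Y.presheaf.stalk (j z)) := flat_germ W _ hzW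
  let gY := gs.map (algebraMap Γ(Y, W.1) (Y.presheaf.stalk (j z)))
  have hgY : LCI.IsKoszulRegularSeq _ gY :=
    seq_flat' (k := .koszul) (by decide) _ (H29Slice.isKoszulRegular_of_isWeaklyRegular hgs.1)
  have hkerj : RingHom.ker (j.stalkMap z).hom = Ideal.ofList gY := by
    rw [H29Slice.ker_stalkMap_of_restrict j W hclW z hzW, hkW, Ideal.map_ofList]
    rfl
  have hgYirr : Irred gY := irred_of_quasi (quasi_of_seq (k := .koszul) (by decide) hgY)
    (hkerj ▸ RingHom.ker_ne_top _)
  choose lift hlift using i.stalkMap_surjective (j z)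
  let g : List A := gY.map lift
  have hgmap : g.map (i.stalkMap (j z)).hom = gY := by
    rw [List.map_map]
    exact (List.map_congr_left fun a _ => hlift a).trans (List.map_id gY)
  have hK : Ideal.ofList (rs.map γ) = RingHom.ker ((j ≫ i).stalkMap z).hom := by
    rw [H29Slice.ker_stalkMap_of_restrict (j ≫ i) U hclc z hxU, hkerc, Ideal.map_ofList]
    rfl
  have heq : Ideal.ofList (rs.map γ) = Ideal.ofList (g ++ f.map γ) := by
    rw [hK, Scheme.Hom.stalkMap_comp]
    show RingHom.ker ((j.stalkMap z).hom.comp (i.stalkMap (j z)).hom) = _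
    rw [← RingHom.comap_ker, hkerj, ← hgmap, ← Ideal.map_ofList,
      Ideal.comap_map_of_surjective _ (i.stalkMap_surjective (j z)), ← RingHom.ker_eq_comap_bot, hkerq,
      Ideal.ofList_append]
  letI : Algebra Γ(X, U.1) A := γ.toAlgebra
  haveI : Module.Flat Γ(X, U.1) A := flat_germ U _ hxU
  have hw : IsWeaklyRegular A (f.map γ) := by
    refine weaklyRegular_of_split (i.stalkMap (j z)).hom (i.stalkMap_surjective (j z)) hkerq hfirr ?_ (hgmap ▸ hgYirr) (seq_flat' hk A hrs) heq
      (by change Ideal.ofList (rs.map γ) ≠ ⊤; rw [hK]; exact RingHom.ker_ne_top _)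
    have h1 := H29Slice.isH1Regular_of_isKoszulRegular hgY
    rw [← hgmap] at h1
    have key : ∀ (n : ℕ) (e : n = (g.map (i.stalkMap (j z)).hom).length),
        CAlgX.IsH1Regular fun l => (g.map (i.stalkMap (j z)).hom).get (Fin.cast e l) := by
      rintro n rfl; exact h1
    have h2 := key g.length (List.length_map _).symm
    convert h2 using 2 with l
    simp
  -- shrink so that `f` generates
  obtain ⟨a, hxa, hgen⟩ := KoszCancel.exists_basicOpen_generate U x hxU _ ⟨s, hs⟩ f (hfle.trans hsl.le)
    (by rw [← hsl, Ideal.map_ofList, ← hfgen])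
  let D : X.affineOpens := X.affineBasicOpen a
  have hDU : D.1 ≤ U.1 := X.basicOpen_le a
  obtain ⟨hclD, hkerD⟩ := H29Slice.restrict_baseChange H U.2 hcli D.2 (e := hDU)
  refine regularAt_of_stalk i (j z) D hxa hclD (f.map (X.presheaf.map (homOfLE hDU).op).hom) ?_ ?_
  · rw [hkerD]
    refine Eq.trans ?_ hgen
    simp only [Scheme.Hom.appLE, Scheme.Hom.id_app]
    rfl
  · rw [List.map_map]
    convert hw using 2
    funext a
    exact TopCat.Presheaf.germ_res_apply X.presheaf (homOfLE hDU) x hxa a

end Groth.Agent.H11Split
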