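import Groth.Agent.H11Split.Alg
import Groth.Agent.H11Split.Conormal
import Groth.Agent.H17.KoszCancel.Scheme
import Mathlib

/-!
# Cancellation of regular immersions with split conormal sequence

Adapted from `H17.KoszCancel.cancel` (closed Koszul-regular immersions).
-/

set_option autoImplicit false
set_option linter.style.haveILetI false

universe u

open CategoryTheory CategoryTheory.Limits AlgebraicGeometry TopologicalSpace

namespace Groth.Agent.H11Split

open Groth.Agent.H17 Groth.Agent.H17.RegDescent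
open Groth.Agent.H17.KoszCancel (exists_basicOpen_generate irred_append)

variable {X Y Z : Scheme.{u}}

/-- An affine chart of an immersion locally of finite presentation with an irredundant list of equations. -/
theorem exists_irred_chart {k : RegImm.Kind} (hk : k ≠ RegImm.Kind.regular) (i : Y ⟶ X) [IsImmersion i]
    [LocallyOfFinitePresentation i] (y : Y) (hi : k = .koszul → RegImm.IsRegularImmersionAt .koszul i y) :
    ∃ (U : X.affineOpens) (hy : i y ∈ U.1), IsClosedImmersion (i ∣_ U.1) ∧ ∃ f : List Γ(X, U.1),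
      RingHom.ker (i.app U.1).hom = Ideal.ofList f ∧ (k = .koszul → LCI.IsKoszulRegularSeq Γ(X, U.1) f) ∧
        Irred (f.map (X.presheaf.germ U.1 (i y) hy).hom) := by
  classical
  by_cases hkk : k = .koszul
  · obtain ⟨U, hy, hcl, f, hf, hker⟩ := hi hkk
    refine ⟨U, hy, hcl, f, hker, fun _ => hf, ?_⟩
    letI : Algebra Γ(X, U.1) (X.presheaf.stalk (i y)) := (X.presheaf.germ U.1 (i y) hy).hom.toAlgebra
    haveI : Module.Flat Γ(X, U.1) (X.presheaf.stalk (i y)) := flat_germ U _ hy
    refine irred_of_quasi (quasi_of_seq (k := .koszul) (by decide) (seq_flat' (by decide) _ hf)) ?_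
    change Ideal.ofList (f.map (X.presheaf.germ U.1 (i y) hy).hom) ≠ ⊤
    rw [← Ideal.map_ofList, ← hker, ← H29Slice.ker_stalkMap_of_restrict i U hcl y hy]
    exact RingHom.ker_ne_top _
  · obtain ⟨U, hy, -, hcl⟩ := exists_affine_closed i y ⊤ (Opens.mem_top _)
    obtain ⟨haff, hsurj⟩ := H29Slice.preimage_affine_and_surjective i U.2 hcl
    have hFG : (RingHom.ker (i.app U.1).hom).FG := by
      have hfp : (i.appLE U.1 (i ⁻¹ᵁ U.1) le_rfl).hom.FinitePresentation :=
        LocallyOfFinitePresentation.finitePresentation_appLE i U.2 haff le_rfl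
      rw [Scheme.Hom.appLE_eq_app] at hfp
      letI := (i.app U.1).hom.toAlgebra
      haveI : Algebra.FinitePresentation Γ(X, U.1) Γ(Y, i ⁻¹ᵁ U.1) := hfp
      exact Algebra.FinitePresentation.ker_fG_of_surjective (Algebra.ofId Γ(X, U.1) Γ(Y, i ⁻¹ᵁ U.1)) hsurj
    obtain ⟨s, hs⟩ := hFG
    have hsl : RingHom.ker (i.app U.1).hom = Ideal.ofList s.toList := by
      simp only [Ideal.ofList, Finset.mem_toList]; exact hs.symm
    obtain ⟨f, hfle, hf, hirr⟩ := exists_min_sublist (X.presheaf.germ U.1 (i y) hy).hom s.toList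
    obtain ⟨a, hya, hgen⟩ := exists_basicOpen_generate U (i y) hy _ ⟨s, hs⟩ f (hfle.trans hsl.ge)
      (by rw [hsl, Ideal.map_ofList, ← hf])
    let D : X.affineOpens := X.affineBasicOpen a
    have hDU : D.1 ≤ U.1 := X.basicOpen_le a
    have H : IsPullback (𝟙 Y) i i (𝟙 X) := IsPullback.of_horiz_isIso ⟨by simp⟩
    obtain ⟨hcl', hker'⟩ := H29Slice.restrict_baseChange H U.2 hcl D.2 (e := hDU)
    refine ⟨D, hya, hcl', f.map (X.presheaf.map (homOfLE hDU).op).hom, ?_, fun h => absurd h hkk, ?_⟩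
    · rw [hker']
      refine Eq.trans ?_ hgen
      simp only [Scheme.Hom.appLE, Scheme.Hom.id_app]
      rfl
    · rw [List.map_map]
      convert hirr using 2
      funext x
      exact TopCat.Presheaf.germ_res_apply X.presheaf (homOfLE hDU) (i y) hya x

/-- Regularity of a composite passes to the first immersion when the conormal sequence is split. -/
theorem cancelAt {k : RegImm.Kind} (hk : k ≠ RegImm.Kind.regular) (i : Y ⟶ X) [IsImmersion i] [QuasiCompact i]
    [LocallyOfFinitePresentation i] (j : Z ⟶ Y) [IsImmersion j] [QuasiCompact j] (z : Z)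
    (hi : k = .koszul → RegImm.IsRegularImmersionAt .koszul i (j z))
    (hij : RegImm.IsRegularImmersionAt k (j ≫ i) z)
    (φ₁ : (Scheme.Modules.pullback j).obj (Omega.conormal i) ⟶ Omega.conormal (j ≫ i))
    (hφ₁ : OmegaSh.IsConormalMap (j ≫ i) i (𝟙 X) j φ₁)
    (U' : Z.Opens) (hzU' : z ∈ U') (ρ : (Scheme.Modules.restrictFunctor U'.ι).obj (Omega.conormal (j ≫ i)) ⟶
        (Scheme.Modules.restrictFunctor U'.ι).obj ((Scheme.Modules.pullback j).obj (Omega.conormal i)))
    (hρ : (Scheme.Modules.restrictFunctor U'.ι).map φ₁ ≫ ρ = 𝟙 _) :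
    RegImm.IsRegularImmersionAt k j z := by
  classical
  -- one affine open with both charts
  obtain ⟨U₁, hzU₁, hcl₁, f₁, hker₁, hf₁, hirr₁⟩ := exists_irred_chart hk i (j z) hi
  obtain ⟨U, hzU, hUle, hclc, rs, hrs, hkerc⟩ := exists_chart_le hk (j ≫ i) z hij U₁.1 hzU₁
  have H : IsPullback (𝟙 Y) i i (𝟙 X) := IsPullback.of_horiz_isIso ⟨by simp⟩
  obtain ⟨hcli, hkeri'⟩ := H29Slice.restrict_baseChange H U₁.2 hcl₁ U.2 (e := hUle)
  let f : List Γ(X, U.1) := f₁.map (X.presheaf.map (homOfLE hUle).op).hom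
  have hkeri : RingHom.ker (i.app U.1).hom = Ideal.ofList f := by
    rw [hkeri', hker₁, Ideal.map_ofList]
    simp only [f, Scheme.Hom.appLE, Scheme.Hom.id_app]
    rfl
  have hf : k = .koszul → LCI.IsKoszulRegularSeq Γ(X, U.1) f := fun h =>
    (KoszComp.chart_restrict i U₁ U hUle hcl₁ (hf₁ h) hker₁).2.1
  let I : Ideal Γ(X, U.1) := RingHom.ker (i.app U.1).hom
  let K : Ideal Γ(X, U.1) := RingHom.ker ((j ≫ i).app U.1).hom
  have hIK : I ≤ K := fun a (ha : (i.app U.1).hom a = 0) => by
    show ((j ≫ i).app U.1).hom a = 0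
    rw [Scheme.Hom.comp_app]
    show (j.app _).hom ((i.app U.1).hom a) = 0
    rw [ha, map_zero]
  let γ := (X.presheaf.germ U.1 (i (j z)) hzU).hom
  have hJst : RingHom.ker (i.stalkMap (j z)).hom = Ideal.ofList (f.map γ) := by
    rw [H29Slice.ker_stalkMap_of_restrict i U hcli (j z) hzU, show RingHom.ker (i.app U.1).hom = _ from hkeri,
      Ideal.map_ofList]
  have hKst : RingHom.ker ((j ≫ i).stalkMap z).hom = K.map γ :=
    H29Slice.ker_stalkMap_of_restrict (j ≫ i) U hclc z hzU
  have hcomap : (RingHom.ker (j.stalkMap z).hom).comap (i.stalkMap (j z)).hom = K.map γ := by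
    rw [← hKst, RingHom.comap_ker, Scheme.Hom.stalkMap_comp]
    rfl
  have hKγ : Ideal.ofList (rs.map γ) = K.map γ := by
    rw [show K = _ from hkerc, Ideal.map_ofList]
  letI : Algebra Γ(X, U.1) (X.presheaf.stalk (i (j z))) := γ.toAlgebra
  haveI : Module.Flat Γ(X, U.1) (X.presheaf.stalk (i (j z))) := flat_germ U _ hzU
  have hfirr : Irred (f.map γ) := by
    rw [show f.map γ = f₁.map (X.presheaf.germ U₁.1 (i (j z)) hzU₁).hom by
      rw [List.map_map]
      exact List.map_congr_left fun x _ => TopCat.Presheaf.germ_res_apply X.presheaf (homOfLE hUle) (i (j z)) hzU x]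
    exact hirr₁
  have hKne : K.map γ ≠ ⊤ := by rw [← hKst]; exact RingHom.ker_ne_top _
  have hrsirr : Irred (rs.map γ) := irred_of_quasi (quasi_of_seq hk (seq_flat' hk _ hrs)) (by
    change Ideal.ofList (rs.map γ) ≠ ⊤
    rw [hKγ]; exact hKne)
  -- a minimal complement of `f`
  have hfK : Ideal.ofList (f.map γ) ≤ K.map γ := by
    rw [← Ideal.map_ofList]
    exact Ideal.map_mono ((le_of_eq hkeri.symm).trans hIK)
  have hex : ∃ n, ∃ g : List Γ(X, U.1), g.length = n ∧ (∀ b ∈ g, b ∈ K) ∧
      Ideal.ofList (g.map γ ++ f.map γ) = K.map γ := by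
    refine ⟨_, rs, rfl, fun b hb => hkerc.ge (Ideal.subset_span hb), ?_⟩
    rw [Ideal.ofList_append, hKγ]
    exact sup_eq_left.2 hfK
  obtain ⟨g, hglen, hgK, hgspan⟩ := Nat.find_spec hex
  have hdrop : ∀ l₁ b l₂, g = l₁ ++ b :: l₂ →
      γ b ∉ Ideal.ofList (l₁.map γ ++ l₂.map γ ++ f.map γ) := by
    rintro l₁ b l₂ rfl hb
    refine Nat.find_min hex (m := (l₁ ++ l₂).length) (by rw [← hglen]; simp) ⟨l₁ ++ l₂, rfl, fun c hc => hgK c ?_, ?_⟩
    · rcases List.mem_append.1 hc with hc | hc
      · exact List.mem_append_left _ hc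
      · exact List.mem_append_right _ (List.mem_cons_of_mem _ hc)
    · rw [← hgspan, List.map_append, List.map_append, List.map_cons,
        show l₁.map γ ++ γ b :: l₂.map γ ++ f.map γ = l₁.map γ ++ γ b :: (l₂.map γ ++ f.map γ) by simp,
        ofList_perm (List.perm_middle (a := γ b) (l₁ := l₁.map γ) (l₂ := l₂.map γ ++ f.map γ)),
        Ideal.ofList_cons, ← List.append_assoc, right_eq_sup, Ideal.span_singleton_le_iff_mem]
      exact hb
  have hH : ∀ w ∈ Ideal.ofList (f.map γ),
      w ∈ IsLocalRing.maximalIdeal (X.presheaf.stalk (i (j z))) * K.map γ →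
      w ∈ IsLocalRing.maximalIdeal (X.presheaf.stalk (i (j z))) * Ideal.ofList (f.map γ) := by
    intro w hwJ hwK
    rw [← hJst] at hwJ ⊢
    exact mem_maximal_mul_of_split i j hφ₁ z U' hzU' ρ hρ w hwJ (hcomap.symm ▸ hwK)
  have hirr : Irred (g.map γ ++ f.map γ) := by
    refine irred_append (g.map γ) (f.map γ) hfirr (hgspan ▸ hH) ?_
    intro l₁ b l₂ h
    obtain ⟨l₁', r, rfl, rfl, hr⟩ := List.map_eq_append_iff.1 h
    obtain ⟨b', l₂', rfl, rfl, rfl⟩ := List.map_eq_cons_iff.1 hr
    exact hdrop l₁' b' l₂' rfl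
  have hglenrs : g.length + f.length = rs.length := by
    have h1 := length_le_of_irred hirr (hKγ.trans hgspan.symm)
    have h2 := length_le_of_irred hrsirr (hgspan.trans hKγ.symm)
    simp only [List.length_append, List.length_map] at h1 h2
    omega
  -- shrink so that `g ++ f` generates
  obtain ⟨a, hza, hgen⟩ := exists_basicOpen_generate U (i (j z)) hzU K (by rw [show K = _ from hkerc]; exact ⟨rs.toFinset, by simp [Ideal.ofList]⟩)
    (g ++ f) (by
      rw [Ideal.ofList_append]
      exact sup_le (Ideal.span_le.2 hgK) ((le_of_eq hkeri.symm).trans hIK))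
    (by rw [List.map_append]; exact hgspan.symm)
  let D : X.affineOpens := X.affineBasicOpen a
  have hDU : D.1 ≤ U.1 := X.basicOpen_le a
  obtain ⟨hclDi, hkerDi'⟩ := H29Slice.restrict_baseChange H U.2 hcli D.2 (e := hDU)
  have H' : IsPullback (𝟙 Z) (j ≫ i) (j ≫ i) (𝟙 X) := IsPullback.of_horiz_isIso ⟨by simp⟩
  obtain ⟨hclDc, hkerDc'⟩ := H29Slice.restrict_baseChange H' U.2 hclc D.2 (e := hDU)
  have hkerDi : RingHom.ker (i.app D.1).hom = Ideal.ofList (f.map (X.presheaf.map (homOfLE hDU).op).hom) := by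
    rw [hkerDi', hkeri, Ideal.map_ofList]
    simp only [Scheme.Hom.appLE, Scheme.Hom.id_app]
    rfl
  have hkerDc : RingHom.ker ((j ≫ i).app D.1).hom = Ideal.ofList (rs.map (X.presheaf.map (homOfLE hDU).op).hom) := by
    rw [hkerDc', hkerc, Ideal.map_ofList]
    simp only [Scheme.Hom.appLE, Scheme.Hom.id_app]
    rfl
  have hrsD : k.Seq Γ(X, D.1) (rs.map (X.presheaf.map (homOfLE hDU).op).hom) := by
    letI : Algebra Γ(X, U.1) Γ(X, D.1) := (X.presheaf.map (homOfLE hDU).op).hom.toAlgebra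
    haveI : IsLocalization.Away a Γ(X, D.1) := U.2.isLocalization_basicOpen a
    haveI : Module.Flat Γ(X, U.1) Γ(X, D.1) := IsLocalization.flat _ (Submonoid.powers a)
    exact seq_flat' hk _ hrs
  let res := (X.presheaf.map (homOfLE hDU).op).hom
  have hKD : RingHom.ker ((j ≫ i).app D.1).hom = Ideal.ofList ((g ++ f).map res) := by
    exact hkerDc.trans ((Ideal.map_ofList _ rs).symm.trans ((congrArg (Ideal.map res) hkerc.symm).trans hgen))
  have hseqD : k.Seq Γ(X, D.1) ((g ++ f).map res) := by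
    refine seq_descend hk _ fun m hm => ?_
    obtain ⟨⟨y, hyD⟩, hy⟩ : ∃ y : D.1, (D.2.primeIdealOf y).asIdeal = m := by
      have hy : D.2.fromSpec ⟨m, hm.isPrime⟩ ∈ D.1 := D.2.range_fromSpec.le ⟨_, rfl⟩
      exact ⟨⟨_, hy⟩, congrArg PrimeSpectrum.asIdeal (D.2.fromSpec.isOpenEmbedding.injective
        (D.2.fromSpec_primeIdealOf ⟨_, hy⟩))⟩
    let γy := (X.presheaf.germ D.1 y hyD).hom
    letI : Algebra Γ(X, D.1) (X.presheaf.stalk y) := γy.toAlgebra
    haveI : IsLocalization.AtPrime (X.presheaf.stalk y) (D.2.primeIdealOf ⟨y, hyD⟩).asIdeal :=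
      D.2.isLocalization_stalk ⟨y, hyD⟩
    haveI : Module.Flat Γ(X, D.1) (X.presheaf.stalk y) := flat_germ D y hyD
    refine ⟨X.presheaf.stalk y, inferInstance, inferInstance, inferInstance, ?_, ?_⟩
    · rw [← hy, IsLocalization.AtPrime.map_eq_maximalIdeal (D.2.primeIdealOf ⟨y, hyD⟩).asIdeal (X.presheaf.stalk y)]
      exact (IsLocalRing.maximalIdeal.isMaximal _).ne_top
    change k.Seq _ (((g ++ f).map res).map γy)
    by_cases htop : Ideal.ofList (((g ++ f).map res).map γy) = ⊤
    · exact seq_of_eq_top hk htop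
    have heq : Ideal.ofList ((rs.map res).map γy) = Ideal.ofList (((g ++ f).map res).map γy) := by
      rw [← Ideal.map_ofList γy, ← Ideal.map_ofList γy, ← hKD, hkerDc]
    have hseq : k.Seq _ ((rs.map res).map γy) := seq_flat' hk _ hrsD
    have hi1 := irred_of_quasi (quasi_of_seq hk hseq) (heq ▸ htop)
    refine seq_change hk hseq (irred_of_min fun l hl => ?_) heq ?_
    · have := length_le_of_irred hi1 (hl.trans heq.symm)
      simp only [List.length_map, List.length_append] at this ⊢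
      omega
    · simp only [List.length_map, List.length_append]
      omega
  -- descend to `Y`
  obtain ⟨hW, hsurj⟩ := H29Slice.preimage_affine_and_surjective i D.2 hclDi
  let W : Y.affineOpens := ⟨i ⁻¹ᵁ D.1, hW⟩
  have hq : k.Seq Γ(Y, W.1) ((g.map res).map (i.app D.1).hom) :=
    seq_of_append (i.app D.1).hom hk hsurj hkerDi (by have := hseqD; rw [List.map_append] at this; exact this)
      fun h => (KoszComp.chart_restrict i U D hDU hcli (hf h) hkeri).2.1
  haveI hclj : IsClosedImmersion (j ∣_ W.1) := by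
    haveI := hclDi
    haveI := hclDc
    haveI : IsClosedImmersion (j ∣_ W.1 ≫ i ∣_ D.1) := by rw [← morphismRestrict_comp]; exact hclDc
    exact IsClosedImmersion.of_comp (j ∣_ W.1) (i ∣_ D.1)
  refine ⟨W, hza, hclj, (g.map res).map (i.app D.1).hom, hq, ?_⟩
  have hcm : RingHom.ker ((j ≫ i).app D.1).hom = (RingHom.ker (j.app W.1).hom).comap (i.app D.1).hom := by
    rw [RingHom.comap_ker, Scheme.Hom.comp_app]
    rfl
  have := congrArg (Ideal.map (i.app D.1).hom) hcm
  rw [Ideal.map_comap_of_surjective _ hsurj] at this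
  have h0 : (Ideal.ofList (f.map res)).map (i.app D.1).hom = ⊥ := by
    rw [Ideal.map_eq_bot_iff_le_ker, hkerDi]
  rw [← this, hKD, List.map_append, Ideal.ofList_append, Ideal.map_sup, h0, sup_bot_eq, Ideal.map_ofList]

end Groth.Agent.H11Split
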